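import Groth.Agent.H23.SeesawGlobal
import Groth.Agent.H23.PicMul
import Groth.Agent.S10606
import Mathlib.AlgebraicGeometry.Sites.Fpqc

/-!
# Invertible modules which become trivial on a cover
-/

noncomputable section

set_option autoImplicit false
set_option linter.style.haveILetI false
set_option linter.unusedSectionVars false
set_option backward.isDefEq.respectTransparency false
set_option backward.isDefEq.respectTransparency.types false
set_option maxHeartbeats 1000000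
attribute [-instance] CategoryTheory.catToReflQuiver

universe u

open CategoryTheory CategoryTheory.Limits AlgebraicGeometry TopologicalSpace Opposite

namespace Groth.Agent.PicCurve.PicMono

open Groth.Agent.H23 Groth.Agent.H23.TrivBasic InvX

variable {X Y : Scheme.{u}} (g : X ⟶ Y) {L : Y.Modules}

theorem app_resR {U V : Y.Opens} (h : V ≤ U) (a : Γ(Y, U)) :
    g.app V (AModX.resR h a) = AModX.resR (g.preimage_mono h) (g.app U a) :=
  congr($(g.naturality (homOfLE h).op) a)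

/-- A module trivial on a cover with injective functions is trivial when the coordinates descend. -/
theorem triv_of_desc [Surjective g] (hL : PicF.IsInvertible L)
    (hinj : ∀ U : Y.Opens, Function.Injective (g.app U))
    {ε : Γ((Scheme.Modules.pullback g).obj L, ⊤)} (hε : IsFrame ε)
    (hdesc : ∀ (U : Y.Opens) (e : Γ(L, U)), IsFrame e → ∀ h : Γ(X, g ⁻¹ᵁ U),
      AModX.res _ (le_top : g ⁻¹ᵁ U ≤ ⊤) ε = h • pullElt g e → ∃ b, g.app U b = h) : Triv L := by
  choose V hV e he using fun y : Y => InvX.exists_frame hL y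
  have hh : ∀ y, ∃ b : Γ(Y, V y), IsUnit b ∧
      AModX.res _ (le_top : g ⁻¹ᵁ V y ≤ ⊤) ε = g.app (V y) b • pullElt g (e y) := by
    intro y
    obtain ⟨h, hh⟩ := (isFrame_pullElt g (he y)).exists_coord le_rfl (AModX.res _ le_top ε)
    rw [AModX.res_self] at hh
    obtain ⟨h', hh'⟩ := (hε.res (le_top : g ⁻¹ᵁ V y ≤ ⊤)).exists_coord le_rfl (pullElt g (e y))
    rw [AModX.res_self] at hh'
    have hu : IsUnit h := IsUnit.of_mul_eq_one h' ((hε.res (le_top : g ⁻¹ᵁ V y ≤ ⊤)).coord_unique le_rfl (by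
      rw [AModX.res_self, one_smul, mul_smul, ← hh', ← hh]))
    obtain ⟨b, hb⟩ := hdesc _ _ (he y) h hh
    refine ⟨b, ?_, hb ▸ hh⟩
    have h1 : V y ≤ Y.basicOpen b := by
      intro p hp
      obtain ⟨x, rfl⟩ := g.surjective p
      show x ∈ g ⁻¹ᵁ Y.basicOpen b
      rw [Scheme.preimage_basicOpen, hb, X.basicOpen_of_isUnit hu]
      exact hp
    have h2 := RingedSpace.isUnit_res_basicOpen Y.toLocallyRingedSpace.toRingedSpace b
    have h3 : Y.basicOpen b = V y := le_antisymm (Y.basicOpen_le b) h1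
    have h4 : IsUnit (AModX.resR (Y.basicOpen_le b) b) := h2
    have h5 := h4.map (Y.presheaf.map (homOfLE h1).op).hom
    rwa [show (Y.presheaf.map (homOfLE h1).op) (AModX.resR (Y.basicOpen_le b) b) = b from
      (AModX.resR_resR _ _ _).trans (AModX.resR_self b)] at h5
  choose b hb hbε using hh
  have hg : ∀ y, AModX.res _ (le_top : g ⁻¹ᵁ V y ≤ ⊤) ε = pullElt g (b y • e y) := fun y => by
    rw [hbε, pullElt_smul]
  have ht := fun y => (he y).isUnit_smul (hb y)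
  obtain ⟨T, hT, -⟩ := AModX.existsUnique_glue (M := L) (V := ⊤) V (fun _ => le_top) (fun p _ => ⟨p, hV p⟩)
    (fun y => b y • e y) fun y z => by
      let W := V y ⊓ V z
      obtain ⟨k, hk⟩ := (ht y).exists_coord (inf_le_left : W ≤ V y) (AModX.res L (inf_le_right : W ≤ V z) (b z • e z))
      have h1 := congrArg (pullElt g) hk
      rw [pullElt_smul, ← res_pullElt g, ← res_pullElt g, ← hg, ← hg, AModX.res_res, AModX.res_res] at h1
      have h2 : g.app W k = g.app W 1 := by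
        rw [map_one]
        exact ((hε.coord_unique (le_top : g ⁻¹ᵁ W ≤ ⊤) ((one_smul _ _).trans h1))).symm
      rw [hinj W h2, one_smul] at hk
      exact hk.symm
  refine triv_of_frame (e := T) (isFrame_of_germwise fun p _ => ⟨V p, le_top, hV p, ?_⟩)
  rw [hT]
  exact ht p

/-- bijective functions give injectivity of pullback -/
theorem triv_of_bijective [Surjective g] (hL : PicF.IsInvertible L)
    (hg : ∀ U : Y.Opens, Function.Bijective (g.app U)) (h : Triv ((Scheme.Modules.pullback g).obj L)) :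
    Triv L := by
  obtain ⟨ε, hε⟩ := h.exists_frame
  exact triv_of_desc g hL (fun U => (hg U).1) hε fun U e _ r _ => (hg U).2 r

theorem app_injective [Flat g] [Surjective g] (U : Y.Opens) : Function.Injective (g.app U) := by
  haveI : Flat (g ∣_ U) := IsZariskiLocalAtTarget.restrict (P := @Flat) inferInstance U
  haveI : Surjective (g ∣_ U) := IsZariskiLocalAtTarget.restrict (P := @Surjective) inferInstance U
  have h := S10606.appTop_injective_of_flat_surjective (g ∣_ U)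
  intro a b hab
  have h2 : g.app U = U.topIso.inv ≫ (g ∣_ U).appTop ≫ (g ⁻¹ᵁ U).topIso.hom := by
    rw [Scheme.Hom.appTop, ← Scheme.Hom.resLE_eq_morphismRestrict, Scheme.Hom.resLE_app_top, Scheme.Hom.app_eq_appLE]
    simp
  rw [h2] at hab
  exact (ConcreteCategory.bijective_of_isIso U.topIso.inv).1
    (h ((ConcreteCategory.bijective_of_isIso (g ⁻¹ᵁ U).topIso.hom).1 hab))

/-- functions equalised by the two projections descend along a faithfully flat cover -/
theorem exists_app_eq [Flat g] [Surjective g] [QuasiCompact g] (h : Γ(X, ⊤))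
    (heq : (pullback.fst g g).appTop h = (pullback.snd g g).appTop h) : ∃ b, g.appTop b = h := by
  let R : CommRingCat.{u} := CommRingCat.of (Polynomial (ULift.{u} ℤ))
  let ev : ∀ {A : CommRingCat.{u}}, A → (R ⟶ A) := fun {A} a =>
    CommRingCat.ofHom (Polynomial.eval₂RingHom ((Int.castRingHom A).comp ULift.ringEquiv.toRingHom) a)
  have hev : ∀ {A : CommRingCat.{u}} (a : A), (ev a).hom Polynomial.X = a := fun a => Polynomial.eval₂_X _ _
  have hnat : ∀ {A B : CommRingCat.{u}} (φ : A ⟶ B) (a : A), ev a ≫ φ = ev (φ a) := by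
    intro A B φ a
    refine CommRingCat.hom_ext (Polynomial.ringHom_ext (fun n => ?_) ?_)
    · exact RingHom.congr_fun (Subsingleton.elim
        (((ev a ≫ φ).hom.comp Polynomial.C).comp ULift.ringEquiv.symm.toRingHom)
        (((ev (φ a)).hom.comp Polynomial.C).comp ULift.ringEquiv.symm.toRingHom)) n.down
    · show φ.hom ((ev a).hom Polynomial.X) = (ev (φ a)).hom Polynomial.X
      rw [hev, hev]
  let a : X ⟶ Spec R := X.toSpecΓ ≫ Spec.map (ev h)
  haveI : EffectiveEpi g := inferInstance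
  let d : Y ⟶ Spec R := EffectiveEpi.desc g a fun {Z} g₁ g₂ hgg => by
    rw [← pullback.lift_fst g₁ g₂ hgg]
    conv_rhs => rw [← pullback.lift_snd g₁ g₂ hgg]
    simp only [a, Category.assoc, Scheme.toSpecΓ_naturality_assoc, ← Spec.map_comp, hnat, heq]
  have hd : g ≫ d = a := EffectiveEpi.fac g a _
  refine ⟨d.appTop ((Scheme.ΓSpecIso R).inv Polynomial.X), ?_⟩
  rw [← CommRingCat.comp_apply, ← Scheme.Hom.comp_appTop, hd]
  simp only [a, Scheme.Hom.comp_appTop, Scheme.toSpecΓ_appTop, Scheme.ΓSpecIso_naturality, CommRingCat.comp_apply,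
    Iso.inv_hom_id_apply, hev]

theorem appLE_of_eq_id {f : X ⟶ X} (hf : f = 𝟙 X) {W V : X.Opens} (e : V ≤ f ⁻¹ᵁ W) (hle : V ≤ W) (s : Γ(X, W)) :
    f.appLE W V e s = AModX.resR hle s := by
  subst hf
  simp [Scheme.Hom.appLE]
  rfl

theorem app_resR' {U V : Y.Opens} {W W' : X.Opens} (e : W ≤ g ⁻¹ᵁ U) (e' : W' ≤ g ⁻¹ᵁ V) (hVU : V ≤ U)
    (hW : W' ≤ W) (a : Γ(Y, U)) :
    g.appLE V W' e' (AModX.resR hVU a) = AModX.resR hW (g.appLE U W e a) := by
  show ((Y.presheaf.map (homOfLE hVU).op) ≫ g.appLE V W' e') a =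
    (g.appLE U W e ≫ X.presheaf.map (homOfLE hW).op) a
  rw [Scheme.Hom.map_appLE, Scheme.Hom.appLE_map]

/-- A module trivial on a faithfully flat cover is trivial if the double cover has no further units. -/
theorem triv_of_flat [Flat g] [Surjective g] [QuasiCompact g] (hL : PicF.IsInvertible L)
    (h : Triv ((Scheme.Modules.pullback g).obj L))
    (hQ : ∀ v : Γ(pullback g g, ⊤), IsUnit v → (pullback.diagonal g).appTop v = 1 → v = 1) : Triv L := by
  obtain ⟨ε, hε⟩ := h.exists_frame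
  refine triv_of_desc g hL (app_injective g) hε fun U e he h hh => ?_
  choose V hV e' he' using fun y : Y => InvX.exists_frame hL y
  choose c hc using fun y => (isFrame_pullElt g (he' y)).exists_coord le_rfl (AModX.res _ (le_top : g ⁻¹ᵁ V y ≤ ⊤) ε)
  simp only [AModX.res_self] at hc
  -- coordinates with respect to any frame
  have hunit : ∀ (W : Y.Opens) (t : Γ(L, W)), IsFrame t → ∀ r : Γ(X, g ⁻¹ᵁ W),
      AModX.res _ (le_top : g ⁻¹ᵁ W ≤ ⊤) ε = r • pullElt g t → IsUnit r := by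
    intro W t ht r hr
    obtain ⟨r', hr'⟩ := (hε.res (le_top : g ⁻¹ᵁ W ≤ ⊤)).exists_coord le_rfl (pullElt g t)
    rw [AModX.res_self] at hr'
    exact IsUnit.of_mul_eq_one r' ((hε.res (le_top : g ⁻¹ᵁ W ≤ ⊤)).coord_unique le_rfl (by
      rw [AModX.res_self, one_smul, mul_smul, ← hr', ← hr]))
  let p := pullback.fst g g
  let q := pullback.snd g g
  let O : Y.Opens → (pullback g g).Opens := fun W => (p ≫ g) ⁻¹ᵁ W
  have hp : ∀ W, O W ≤ p ⁻¹ᵁ (g ⁻¹ᵁ W) := fun W => le_rfl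
  have hq : ∀ W, O W ≤ q ⁻¹ᵁ (g ⁻¹ᵁ W) := fun W => by
    show (p ≫ g) ⁻¹ᵁ W ≤ q ⁻¹ᵁ (g ⁻¹ᵁ W)
    rw [← Scheme.Hom.comp_preimage]
    exact (congrArg (fun φ : pullback g g ⟶ Y => φ ⁻¹ᵁ W) (pullback.condition (f := g) (g := g))).le
  let P₁ := fun W (r : Γ(X, g ⁻¹ᵁ W)) => p.appLE (g ⁻¹ᵁ W) (O W) (hp W) r
  let P₂ := fun W (r : Γ(X, g ⁻¹ᵁ W)) => q.appLE (g ⁻¹ᵁ W) (O W) (hq W) r
  -- ratios
  have hres : ∀ (W W' : Y.Opens) (hle : W' ≤ W) (r : Γ(X, g ⁻¹ᵁ W)),
      P₁ W' (AModX.resR (g.preimage_mono hle) r) = AModX.resR ((p ≫ g).preimage_mono hle) (P₁ W r) ∧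
      P₂ W' (AModX.resR (g.preimage_mono hle) r) = AModX.resR ((p ≫ g).preimage_mono hle) (P₂ W r) :=
    fun W W' hle r => ⟨app_resR' p _ _ _ _ r, app_resR' q _ _ _ _ r⟩
  have hbase : ∀ (W : Y.Opens) (a : Γ(Y, W)), P₁ W (g.app W a) = P₂ W (g.app W a) := fun W a => by
    show (g.app W ≫ p.appLE (g ⁻¹ᵁ W) (O W) (hp W)) a = (g.app W ≫ q.appLE (g ⁻¹ᵁ W) (O W) (hq W)) a
    rw [← Scheme.Hom.comp_appLE, ← Scheme.Hom.comp_appLE]
    have hc2 : p ≫ g = q ≫ g := pullback.condition (f := g) (g := g)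
    have hgen : ∀ (φ ψ : pullback g g ⟶ Y), φ = ψ → ∀ e₁ e₂, φ.appLE W (O W) e₁ = ψ.appLE W (O W) e₂ := by
      rintro _ _ rfl _ _; rfl
    exact congr($(hgen _ _ hc2 _ _) a)
  -- the coordinates on a common refinement
  have hcomp : ∀ (W₁ W₂ : Y.Opens) (t₁ : Γ(L, W₁)) (t₂ : Γ(L, W₂)), IsFrame t₁ → IsFrame t₂ →
      ∀ (r₁ : Γ(X, g ⁻¹ᵁ W₁)) (r₂ : Γ(X, g ⁻¹ᵁ W₂)),
      AModX.res _ (le_top : g ⁻¹ᵁ W₁ ≤ ⊤) ε = r₁ • pullElt g t₁ →
      AModX.res _ (le_top : g ⁻¹ᵁ W₂ ≤ ⊤) ε = r₂ • pullElt g t₂ →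
      ∃ a : Γ(Y, W₁ ⊓ W₂), AModX.resR (g.preimage_mono inf_le_left) r₁ =
        g.app _ a * AModX.resR (g.preimage_mono inf_le_right) r₂ := by
    intro W₁ W₂ t₁ t₂ h₁ h₂ r₁ r₂ e₁ e₂
    let W := W₁ ⊓ W₂
    obtain ⟨a, ha⟩ := h₁.exists_coord (inf_le_left : W ≤ W₁) (AModX.res L (inf_le_right : W ≤ W₂) t₂)
    refine ⟨a, (isFrame_pullElt g h₁).coord_unique (g.preimage_mono inf_le_left) ?_⟩
    have f₁ := congrArg (AModX.res _ (g.preimage_mono (inf_le_left : W ≤ W₁))) e₁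
    have f₂ := congrArg (AModX.res _ (g.preimage_mono (inf_le_right : W ≤ W₂))) e₂
    rw [AModX.res_smul, AModX.res_res] at f₁ f₂
    rw [← f₁, f₂, res_pullElt g inf_le_right, ha, pullElt_smul, ← res_pullElt g inf_le_left, smul_smul,
      mul_comm]
  choose d hd using fun y => (hunit _ _ (he' y) _ (hc y)).map (q.appLE (g ⁻¹ᵁ V y) (O (V y)) (hq _)).hom
  let r : ∀ y, Γ(pullback g g, O (V y)) := fun y => P₁ _ (c y) * ((d y)⁻¹ : _)
  have hr : ∀ y, P₁ _ (c y) = r y * P₂ _ (c y) := fun y => by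
    show _ = _ * (q.appLE (g ⁻¹ᵁ V y) (O (V y)) (hq _)).hom (c y)
    rw [← hd y]
    simp [r]
  have hu₂ : ∀ (W : Y.Opens) (y : Y) (hle : W ≤ V y), IsUnit (P₂ W (AModX.resR (g.preimage_mono hle) (c y))) :=
    fun W y hle => ((hunit _ _ (he' y) _ (hc y)).map (X.presheaf.map (homOfLE (g.preimage_mono hle)).op).hom).map _
  have hrel : ∀ (y : Y) (W₂ : Y.Opens) (t₂ : Γ(L, W₂)), IsFrame t₂ → ∀ r₂ : Γ(X, g ⁻¹ᵁ W₂),
      AModX.res _ (le_top : g ⁻¹ᵁ W₂ ≤ ⊤) ε = r₂ • pullElt g t₂ →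
      AModX.resR ((p ≫ g).preimage_mono (inf_le_right : V y ⊓ W₂ ≤ W₂)) (P₁ _ r₂) =
        AModX.resR ((p ≫ g).preimage_mono (inf_le_left : V y ⊓ W₂ ≤ V y)) (r y) *
          AModX.resR ((p ≫ g).preimage_mono (inf_le_right : V y ⊓ W₂ ≤ W₂)) (P₂ _ r₂) := by
    intro y W₂ t₂ h₂ r₂ e₂
    obtain ⟨a, ha⟩ := hcomp _ _ _ _ (he' y) h₂ _ _ (hc y) e₂
    have e := congrArg (AModX.resR ((p ≫ g).preimage_mono (inf_le_left : V y ⊓ W₂ ≤ V y))) (hr y)
    simp only [AModX.resR, map_mul] at e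
    change AModX.resR _ _ = AModX.resR _ _ * AModX.resR _ _ at e
    rw [← (hres _ _ inf_le_left (c y)).1, ← (hres _ _ inf_le_left (c y)).2, ha] at e
    simp only [P₁, P₂, map_mul] at e
    change P₁ _ (g.app _ a) * _ = _ * (P₂ _ (g.app _ a) * _) at e
    rw [hbase, mul_left_comm] at e
    have hu : IsUnit (P₂ (V y ⊓ W₂) (g.app _ a)) := by
      have := hu₂ (V y ⊓ W₂) y inf_le_left
      rw [ha] at this
      simp only [P₂, map_mul] at this
      exact isUnit_of_mul_isUnit_left this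
    rw [← (hres _ _ inf_le_right r₂).1, ← (hres _ _ inf_le_right r₂).2]
    exact hu.mul_left_cancel e
  obtain ⟨v, hv, -⟩ := AModX.existsUnique_glue (M := Coh.structureModule (pullback g g)) (V := ⊤) (fun y => O (V y))
    (fun _ => le_top) (fun x _ => ⟨_, hV ((p ≫ g) x)⟩) r fun y z => by
      have e := hrel y (V z) (e' z) (he' z) (c z) (hc z)
      have e2 := congrArg (AModX.resR ((p ≫ g).preimage_mono (inf_le_right : V y ⊓ V z ≤ V z))) (hr z)
      simp only [AModX.resR, map_mul] at e2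
      change AModX.resR _ _ = AModX.resR _ _ * AModX.resR _ _ at e2
      rw [e, ← (hres _ _ inf_le_right (c z)).2] at e2
      exact ((hunit _ _ (he' z) _ (hc z)).map (X.presheaf.map (homOfLE (g.preimage_mono
        (inf_le_right : V y ⊓ V z ≤ V z))).op).hom |>.map
          (q.appLE _ (O (V y ⊓ V z)) (hq _)).hom).mul_right_cancel e2
  let v' : Γ(pullback g g, ⊤) := v
  have hv' : ∀ y, AModX.resR (le_top : O (V y) ≤ ⊤) v' = r y := hv
  have hv1 : v' = 1 := by
    refine hQ v' ?_ ?_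
    · refine RingedSpace.isUnit_of_isUnit_germ (pullback g g).toLocallyRingedSpace.toRingedSpace ⊤ v' fun x _ => ?_
      have h1 : IsUnit (r ((p ≫ g) x)) :=
        ((hunit _ _ (he' _) _ (hc _)).map (p.appLE (g ⁻¹ᵁ V _) (O (V _)) (hp _)).hom).mul (Units.isUnit _)
      rw [← hv'] at h1
      have h2 := h1.map ((pullback g g).presheaf.germ (O (V _)) x (hV ((p ≫ g) x))).hom
      rwa [show (pullback g g).presheaf.germ (O (V _)) x (hV ((p ≫ g) x))
        (AModX.resR (le_top : O (V _) ≤ ⊤) v') = (pullback g g).presheaf.germ ⊤ x trivial v' from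
          TopCat.Presheaf.germ_res_apply _ _ _ _ _] at h2
    · let δ := pullback.diagonal g
      refine X.sheaf.eq_of_locally_eq' (fun y => g ⁻¹ᵁ V y) ⊤ (fun _ => homOfLE le_top)
        (fun x _ => Opens.mem_iSup.2 ⟨g x, hV (g x)⟩) _ _ fun y => ?_
      have hle : g ⁻¹ᵁ V y ≤ δ ⁻¹ᵁ O (V y) := by
        rw [← Scheme.Hom.comp_preimage, ← Category.assoc, pullback.diagonal_fst, Category.id_comp]
      have k1 : ∀ (W : X.Opens) (e1 : g ⁻¹ᵁ V y ≤ δ ⁻¹ᵁ O (V y)) (e2 : O (V y) ≤ p ⁻¹ᵁ W) (hle' : g ⁻¹ᵁ V y ≤ W)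
          (s : Γ(X, W)), δ.appLE (O (V y)) _ e1 (p.appLE W _ e2 s) = AModX.resR hle' s := fun W e1 e2 hle' s => by
        show (p.appLE W _ e2 ≫ δ.appLE (O (V y)) _ e1) s = _
        rw [Scheme.Hom.appLE_comp_appLE]
        exact appLE_of_eq_id (pullback.diagonal_fst g) _ _ _
      have k2 : ∀ (W : X.Opens) (e1 : g ⁻¹ᵁ V y ≤ δ ⁻¹ᵁ O (V y)) (e2 : O (V y) ≤ q ⁻¹ᵁ W) (hle' : g ⁻¹ᵁ V y ≤ W)
          (s : Γ(X, W)), δ.appLE (O (V y)) _ e1 (q.appLE W _ e2 s) = AModX.resR hle' s := fun W e1 e2 hle' s => by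
        show (q.appLE W _ e2 ≫ δ.appLE (O (V y)) _ e1) s = _
        rw [Scheme.Hom.appLE_comp_appLE]
        exact appLE_of_eq_id (pullback.diagonal_snd g) _ _ _
      have e := congrArg (δ.appLE (O (V y)) (g ⁻¹ᵁ V y) hle) (hr y)
      simp only [P₁, P₂, map_mul] at e
      rw [k1 _ _ _ le_rfl, k2 _ _ _ le_rfl, ← hv' y] at e
      have e3 : δ.appLE (O (V y)) (g ⁻¹ᵁ V y) hle (AModX.resR le_top v') = AModX.resR le_top (δ.appTop v') :=
        app_resR' δ le_rfl _ _ _ v' |>.trans (by rw [← Scheme.Hom.app_eq_appLE]; rfl)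
      rw [e3] at e
      show AModX.resR le_top (δ.appTop v') = AModX.resR le_top 1
      rw [show AModX.resR (le_top : g ⁻¹ᵁ V y ≤ ⊤) (1 : Γ(X, ⊤)) = 1 from map_one _]
      simp only [AModX.resR_self] at e
      exact (hunit _ _ (he' y) _ (hc y)).mul_right_cancel (e.symm.trans (one_mul _).symm)
  -- descend
  have heq : P₁ U h = P₂ U h := by
    refine (pullback g g).sheaf.eq_of_locally_eq' (fun y => O (V y ⊓ U)) (O U)
      (fun _ => homOfLE ((p ≫ g).preimage_mono inf_le_right))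
      (fun x hx => Opens.mem_iSup.2 ⟨_, hV ((p ≫ g) x), hx⟩) _ _ fun y => ?_
    have e2 := hrel y U e he h hh
    rw [← hv' y, hv1] at e2
    simp only [AModX.resR, map_one, one_mul] at e2
    exact e2
  haveI : Flat (g ∣_ U) := IsZariskiLocalAtTarget.restrict (P := @Flat) inferInstance U
  haveI : Surjective (g ∣_ U) := IsZariskiLocalAtTarget.restrict (P := @Surjective) inferInstance U
  haveI : QuasiCompact (g ∣_ U) := IsZariskiLocalAtTarget.restrict (P := @QuasiCompact) inferInstance U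
  let a := pullback.fst (g ∣_ U) (g ∣_ U)
  let b := pullback.snd (g ∣_ U) (g ∣_ U)
  let j : pullback (g ∣_ U) (g ∣_ U) ⟶ pullback g g := pullback.lift (a ≫ (g ⁻¹ᵁ U).ι) (b ≫ (g ⁻¹ᵁ U).ι) (by
    rw [Category.assoc, Category.assoc, ← morphismRestrict_ι, ← Category.assoc, pullback.condition, Category.assoc])
  let h0 : Γ((g ⁻¹ᵁ U).toScheme, ⊤) := (g ⁻¹ᵁ U).topIso.inv h
  obtain ⟨b0, hb0⟩ := exists_app_eq (g ∣_ U) h0 (by
    have ej : j ⁻¹ᵁ O U = ⊤ := by
      ext x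
      simp only [SetLike.mem_coe, Opens.coe_top, Set.mem_univ, iff_true]
      show (j ≫ p ≫ g) x ∈ U
      rw [← Category.assoc, show j ≫ p = a ≫ (g ⁻¹ᵁ U).ι from pullback.lift_fst _ _ _]
      exact (a x).2
    have hι : (g ⁻¹ᵁ U).topIso.inv = (g ⁻¹ᵁ U).ι.appLE (g ⁻¹ᵁ U) ⊤ (by simp) := by
      simp [Scheme.Opens.topIso, Scheme.Hom.appLE, ← Functor.map_comp]
      rfl
    have := congrArg (j.appLE (O U) ⊤ ej.ge) heq
    simp only [P₁, P₂] at this
    rw [← CommRingCat.comp_apply, ← CommRingCat.comp_apply, Scheme.Hom.appLE_comp_appLE,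
      Scheme.Hom.appLE_comp_appLE] at this
    simp only [j, p, q, pullback.lift_fst, pullback.lift_snd] at this
    rw [← Scheme.Hom.appLE_comp_appLE a (g ⁻¹ᵁ U).ι (g ⁻¹ᵁ U) ⊤ ⊤ (by simp) le_top,
      ← Scheme.Hom.appLE_comp_appLE b (g ⁻¹ᵁ U).ι (g ⁻¹ᵁ U) ⊤ ⊤ (by simp) le_top, ← hι] at this
    simpa [Scheme.Hom.appTop, Scheme.Hom.app_eq_appLE, h0] using this)
  refine ⟨U.topIso.hom b0, ?_⟩
  have h2 : g.app U = U.topIso.inv ≫ (g ∣_ U).appTop ≫ (g ⁻¹ᵁ U).topIso.hom := by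
    rw [Scheme.Hom.appTop, ← Scheme.Hom.resLE_eq_morphismRestrict, Scheme.Hom.resLE_app_top, Scheme.Hom.app_eq_appLE]
    simp
  rw [h2]
  simp only [CommRingCat.comp_apply, Iso.hom_inv_id_apply, hb0, h0, Iso.inv_hom_id_apply]

end Groth.Agent.PicCurve.PicMono

end
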