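import Groth.Agent.PicCurve.PicMono.Tower
import Groth.Agent.PicCurve.Alb.Main
import Groth.Agent.Ref1X.BirConn
import Groth.Agent.Deform.Blanchard.Factor
import Groth.Agent.RegLoc6.Normal

/-!
# Additive classes on the Jacobian are determined by the curve
-/

noncomputable section

set_option autoImplicit false
set_option linter.style.haveILetI false
set_option linter.unusedSectionVars false
set_option backward.isDefEq.respectTransparency false
set_option backward.isDefEq.respectTransparency.types false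
set_option maxHeartbeats 1000000
set_option synthInstance.maxHeartbeats 400000
attribute [-instance] CategoryTheory.catToReflQuiver

universe u

open CategoryTheory CategoryTheory.Limits AlgebraicGeometry TopologicalSpace Opposite
  MonoidalCategory CartesianMonoidalCategory
open scoped MonObj
open scoped Groth.Agent.H23.PicMul

namespace Groth.Agent.PicCurve.PicMono

open Alb HilbDLib Groth.Agent.AVPair

/-- a map with a section over an open subset inverse to it is birational -/
theorem bijective_stalk_generic {Y Z : Scheme.{u}} [IsIntegral Y] [IsIntegral Z] (φ : Y ⟶ Z) (U : Z.Opens)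
    [IsIso (φ ∣_ U)] (hU : (U : Set Z).Nonempty) :
    ∃ e : φ (genericPoint Y) = genericPoint Z, Function.Bijective
      (Z.presheaf.stalkSpecializes (specializes_of_eq e) ≫ φ.stalkMap (genericPoint Y)).hom := by
  obtain ⟨z, hz⟩ := hU
  have hηU : genericPoint Z ∈ U := ((genericPoint_spec Z).mem_open_set_iff U.isOpen).2 ⟨z, trivial, hz⟩
  let y₀ := inv (φ ∣_ U) ⟨genericPoint Z, hηU⟩
  have hy₀ : φ ((φ ⁻¹ᵁ U).ι y₀) = genericPoint Z := by
    have h1 : (φ ∣_ U) y₀ = ⟨genericPoint Z, hηU⟩ := congr($(IsIso.inv_hom_id (φ ∣_ U)) ⟨genericPoint Z, hηU⟩)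
    have h2 := congr($(morphismRestrict_ι φ U) y₀)
    simp only [Scheme.Hom.comp_apply, h1] at h2
    exact h2.symm
  have hsp : φ (genericPoint Y) ⤳ φ ((φ ⁻¹ᵁ U).ι y₀) :=
    ((genericPoint_spec Y).specializes (Set.mem_univ _)).map φ.continuous
  have e : φ (genericPoint Y) = genericPoint Z := by
    rw [hy₀] at hsp
    exact (hsp.antisymm ((genericPoint_spec Z).specializes (Set.mem_univ _))).eq
  refine ⟨e, ?_⟩
  have hηY : genericPoint Y ∈ φ ⁻¹ᵁ U := show φ (genericPoint Y) ∈ U from e ▸ hηU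
  haveI : IsIso (φ.stalkMap (genericPoint Y)) :=
    ((MorphismProperty.isomorphisms CommRingCat).arrow_mk_iso_iff
      (morphismRestrictStalkMap φ U ⟨genericPoint Y, hηY⟩)).1
      (show IsIso ((φ ∣_ U).stalkMap ⟨genericPoint Y, hηY⟩) from inferInstance)
  haveI : IsIso (Z.presheaf.stalkSpecializes (specializes_of_eq e)) :=
    inferInstanceAs (IsIso (Z.presheaf.stalkCongr (Inseparable.of_eq e.symm)).hom)
  exact ConcreteCategory.bijective_of_isIso _

variable {k : Type u} [Field k] {X : Scheme.{u}} {f : X ⟶ Spec (CommRingCat.of k)}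
  [IsProper f] [Smooth f] [SmoothOfRelativeDimension 1 f] [GeometricallyIntegral f] [IsIntegral X]
  (hdim : topologicalKrullDim X = 1) (σ : Spec (CommRingCat.of k) ⟶ X) (hσ : σ ≫ f = 𝟙 _)
  {J : Over (Spec (CommRingCat.of k))} [IsProper J.hom] [Smooth J.hom] [IrreducibleSpace J.left]
  (ξ : PicF.Rig f σ hσ J) (hξ : FGA.HasFibreDegreeZeroCl f J ξ.1)
  (huniv : ∀ (T : Over (Spec (CommRingCat.of k))) (c : PicF.Rig f σ hσ T), FGA.HasFibreDegreeZeroCl f T c.1 →
    ∃! g : T ⟶ J, PicF.pullCl (PicF.XTmap f g) ξ.1 = c.1)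

include hdim hξ huniv in
/-- functions on the Jacobian are the functions on the scheme of divisors of degree the genus -/
theorem isIso_app_toJ (D : Tower f) (U : J.left.Opens) :
    IsIso ((toJ f hdim σ hσ ξ hξ huniv D (gen f)).left.app U) := by
  obtain ⟨sec, hsec⟩ := exists_lift f hdim σ hσ ξ hξ huniv D
  let Φ := toJ f hdim σ hσ ξ hξ huniv D (gen f)
  let V := goodU f σ hσ ξ
  haveI := GrpSchLib.isReduced_of_smooth_field J.hom
  haveI : IsIntegral J.left := isIntegral_of_irreducibleSpace_of_isReduced _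
  haveI : IsProper Φ.left := by
    haveI := D.proper (gen f)
    haveI : IsProper (Φ.left ≫ J.hom) := by rw [Over.w Φ]; infer_instance
    exact IsProper.of_comp Φ.left J.hom
  have hN : Pi1.IsNormalScheme J.left := fun y => by
    haveI := GrpSchLib.isRegularLocalRing_stalk_of_smooth J.hom y
    exact ⟨RegLoc6.isDomain_of_isRegularLocalRing _, RegLoc6.isIntegrallyClosed_of_isRegularLocalRing _⟩
  let r : AbDual.ovr (D.H (gen f)) (Φ.left ⁻¹ᵁ V).ι ⟶ AbDual.ovr J V.ι := Over.homMk (Φ.left ∣_ V) (by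
    show _ ≫ V.ι ≫ J.hom = (Φ.left ⁻¹ᵁ V).ι ≫ (D.H (gen f)).hom
    rw [morphismRestrict_ι_assoc, Over.w Φ])
  have hr : r ≫ AbDual.ovrHom J V.ι = AbDual.ovrHom (D.H (gen f)) (Φ.left ⁻¹ᵁ V).ι ≫ Φ :=
    Over.OverMorphism.ext (morphismRestrict_ι _ _)
  have hret : r ≫ sec = AbDual.ovrHom (D.H (gen f)) (Φ.left ⁻¹ᵁ V).ι :=
    toJ_inj f hdim σ hσ ξ hξ huniv D _ _ (fun t => by
      have e := congr($(hr).left t)
      have e' := congr($(hsec).left (r.left t))
      simp only [Over.comp_left, Scheme.Hom.comp_apply] at e e' ⊢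
      exact e' ▸ (r.left t).2) (by rw [Category.assoc, hsec, hr])
  have hW : ∀ t, sec.left t ∈ Φ.left ⁻¹ᵁ V := fun t => by
    show Φ.left (sec.left t) ∈ V
    have e' := congr($(hsec).left t)
    simp only [Over.comp_left, Scheme.Hom.comp_apply] at e'
    exact e' ▸ t.2
  let s : V.toScheme ⟶ (Φ.left ⁻¹ᵁ V).toScheme := IsOpenImmersion.lift (Φ.left ⁻¹ᵁ V).ι sec.left (by
    rw [Scheme.Opens.range_ι]
    rintro _ ⟨t, rfl⟩
    exact hW t)
  have hs : s ≫ (Φ.left ⁻¹ᵁ V).ι = sec.left := IsOpenImmersion.lift_fac _ _ _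
  haveI : IsIso (Φ.left ∣_ V) := by
    refine ⟨s, ?_, ?_⟩
    · rw [← cancel_mono (Φ.left ⁻¹ᵁ V).ι, Category.assoc, hs, Category.id_comp]
      exact congr($(hret).left)
    · rw [← cancel_mono V.ι, Category.assoc, morphismRestrict_ι, ← Category.assoc, hs, Category.id_comp]
      exact congr($(hsec).left)
  obtain ⟨e, he⟩ := bijective_stalk_generic Φ.left V (goodU_nonempty f hdim σ hσ ξ hξ huniv)
  exact Ref1X.isIso_app_of_birational hN Φ.left e he U

include hdim hξ huniv in
/-- **Additive classes on the Jacobian trivial on the curve are trivial.** -/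
theorem eq_one_of_aj (T : Over (Spec (CommRingCat.of k))) {c : PicF.Cl (J ⊗ T).left}
    (hc : PicF.IsInvertibleCl c)
    (hadd : letI := jacGrpObj f hdim σ hσ ξ hξ huniv
      ∀ (R : Over (Spec (CommRingCat.of k))) (x y : R ⟶ J) (t : R ⟶ T),
        pl (lift (x * y) t) c = pl (lift x t) c * pl (lift y t) c)
    (hj : pl (aj f hdim σ hσ ξ hξ huniv ▷ T) c = 1) : c = 1 := by
  letI := jacGrpObj f hdim σ hσ ξ hξ huniv
  haveI := jac_isCommMonObj f hdim σ hσ ξ hξ huniv
  obtain ⟨D⟩ := nonempty_tower (f := f) hdim σ hσ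
  have h := pull_sum_eq_one D (aj f hdim σ hσ ξ hξ huniv) hdim (Over.homMk σ hσ) hc hadd hj (gen f)
  obtain ⟨L, rfl, hL⟩ := hc
  let Φ := toJ f hdim σ hσ ξ hξ huniv D (gen f)
  haveI : IsProper Φ.left := by
    haveI := D.proper (gen f)
    haveI : IsProper (Φ.left ≫ J.hom) := by rw [Over.w Φ]; infer_instance
    exact IsProper.of_comp Φ.left J.hom
  have hΦ := isIso_app_toJ hdim σ hσ ξ hξ huniv D
  haveI : Surjective Φ.left := Deform.Blanchard.surjective_of_isIso_app Φ.left hΦ
  have sq := (isPullback_whiskerRight Φ T).flip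
  haveI : Flat (fst J T).left := inferInstanceAs (Flat (pullback.fst J.hom T.hom))
  haveI : Surjective (Φ ▷ T).left := MorphismProperty.of_isPullback sq inferInstance
  refine H23.PicMul.cl_eq_iff.2 (triv_of_bijective (Φ ▷ T).left hL (fun U => ?_) (H23.PicMul.cl_eq_iff.1 h))
  haveI := Deform.Blanchard.isIso_app_of_flat sq hΦ U
  exact ConcreteCategory.bijective_of_isIso _

end Groth.Agent.PicCurve.PicMono

end
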