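import Groth.Agent.PicCurve.PicMono.Descend
import Groth.Agent.PicCurve.Alb.Tower
import Groth.Agent.Lib.AVPair
import Groth.Agent.H23.Rigid
import Groth.Agent.H23.KLBasic

/-!
# Additive classes trivial on the curve are trivial on the schemes of divisors
-/

noncomputable section

set_option autoImplicit false
set_option linter.style.haveILetI false
set_option linter.unusedSectionVars false
set_option backward.isDefEq.respectTransparency false
set_option backward.isDefEq.respectTransparency.types false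
set_option maxHeartbeats 1000000
set_option synthInstance.maxHeartbeats 400000
attribute [-instance] CategoryTheory.catToReflQuiver

universe u

open CategoryTheory CategoryTheory.Limits AlgebraicGeometry TopologicalSpace Opposite
  MonoidalCategory CartesianMonoidalCategory
open scoped MonObj
open scoped Groth.Agent.H23.PicMul

namespace Groth.Agent.PicCurve.PicMono

open Alb HilbDLib Groth.Agent.AVPair Groth.Agent.H23.TrivBasic

variable {k : Type u} [Field k]

/-- the base change along the projection -/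
theorem isPullback_whiskerRight {P Q : Over (Spec (CommRingCat.of k))} (φ : P ⟶ Q)
    (T : Over (Spec (CommRingCat.of k))) :
    IsPullback (φ ▷ T).left (fst P T).left (fst Q T).left φ.left := by
  refine IsPullback.of_right ?_ congr($(whiskerRight_fst φ T).left) (IsPullback.of_hasPullback Q.hom T.hom).flip
  have e1 : (φ ▷ T).left ≫ pullback.snd Q.hom T.hom = pullback.snd P.hom T.hom :=
    congr($(whiskerRight_snd φ T).left)
  rw [e1, Over.w φ]
  exact (IsPullback.of_hasPullback P.hom T.hom).flip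

/-- integral proper schemes with a rational point have no non constant functions -/
theorem bijective_appTop_of_pt (H : Over (Spec (CommRingCat.of k))) [IsIntegral H.left] [IsProper H.hom]
    (p : 𝟙_ (Over (Spec (CommRingCat.of k))) ⟶ H) : Function.Bijective H.hom.appTop := by
  have hF := isField_of_universallyClosed k H.hom
  have hid : ∀ x, p.left.appTop (H.hom.appTop x) = x := fun x => by
    rw [← CommRingCat.comp_apply, ← Scheme.Hom.comp_appTop, show p.left ≫ H.hom = 𝟙 _ from Over.w p]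
    rfl
  refine ⟨fun a b h => by rw [← hid a, h, hid b], fun x => ⟨p.left.appTop x, ?_⟩⟩
  letI := hF.toField
  by_contra hne
  have hu : IsUnit (H.hom.appTop (p.left.appTop x) - x) :=
    isUnit_iff_ne_zero.2 (sub_ne_zero.2 hne)
  have h0 : IsUnit (p.left.appTop (H.hom.appTop (p.left.appTop x) - x)) := hu.map p.left.appTop.hom
  rw [map_sub, hid, sub_self, isUnit_zero_iff] at h0
  have hsub : Subsingleton Γ((𝟙_ (Over (Spec (CommRingCat.of k)))).left, ⊤) := subsingleton_of_zero_eq_one h0
  haveI : Nontrivial Γ(Spec (CommRingCat.of k), ⊤) :=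
    (Scheme.ΓSpecIso (CommRingCat.of k)).commRingCatIsoToRingEquiv.nontrivial
  haveI : Subsingleton Γ(Spec (CommRingCat.of k), ⊤) := hsub
  exact false_of_nontrivial_of_subsingleton Γ(Spec (CommRingCat.of k), ⊤)

/-- products of schemes without functions have no functions -/
theorem bijective_appTop_tensor {H W : Over (Spec (CommRingCat.of k))} [IsProper H.hom] [IsProper W.hom]
    (hH : Function.Bijective H.hom.appTop) (hW : Function.Bijective W.hom.appTop) :
    Function.Bijective (H ⊗ W).hom.appTop := by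
  have e : (H ⊗ W).hom = pullback.snd H.hom W.hom ≫ W.hom := pullback.condition
  rw [e, Scheme.Hom.comp_appTop]
  exact (H23.Rigid.bijective_app_snd_of_bijective H.hom W.hom hH ⊤).comp hW

variable {X : Scheme.{u}} {f : X ⟶ Spec (CommRingCat.of k)}
  [IsProper f] [Smooth f] [SmoothOfRelativeDimension 1 f] [GeometricallyIntegral f] [IsIntegral X]
  (D : Tower f)

instance (n : ℕ) : IsProper (HX f (D.H n)).hom :=
  haveI := D.proper n
  inferInstanceAs (IsProper (pullback.fst (D.H n).hom f ≫ (D.H n).hom))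

/-- units on the double cover are normalised by the diagonal -/
theorem double_cover (hdim : topologicalKrullDim X = 1) (bp : 𝟙_ (Over (Spec (CommRingCat.of k))) ⟶ Over.mk f)
    (n : ℕ) (T : Over (Spec (CommRingCat.of k)))
    (v : Γ(pullback (D.m n ▷ T).left (D.m n ▷ T).left, ⊤))
    (hv : (pullback.diagonal (D.m n ▷ T).left).appTop v = 1) : v = 1 := by
  let W := HX f (D.H n) ⊗ T
  let g := (D.m n ▷ T).left
  cases n with
  | zero =>
    haveI : LocallyOfFinitePresentation (D.m 0).left := (D.deg 0).1.2.2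
    haveI : IsIso (D.m 0).left := by
      rw [Scheme.Hom.isIso_iff_finrank_eq]
      exact funext fun y => (D.deg 0).2 y
    haveI : IsIso g := (isPullback_whiskerRight (D.m 0) T).isIso_fst_of_isIso
    haveI : IsIso (pullback.diagonal g) := inferInstance
    apply (ConcreteCategory.bijective_of_isIso (pullback.diagonal g).appTop).1
    rw [hv, map_one]
  | succ n =>
    let p := pullback.fst g g
    let q := pullback.snd g g
    let R : Over (Spec (CommRingCat.of k)) := Over.mk (p ≫ W.hom)
    let pp : R ⟶ W := Over.homMk p rfl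
    let qq : R ⟶ W := Over.homMk q (by
      show q ≫ W.hom = p ≫ W.hom
      rw [← Over.w (D.m (n + 1) ▷ T)]
      exact (pullback.condition_assoc (f := g) (g := g) _).symm)
    have hpq : pp ≫ (D.m (n + 1) ▷ T) = qq ≫ (D.m (n + 1) ▷ T) := Over.OverMorphism.ext pullback.condition
    let a := pp ≫ fst _ _
    let b := qq ≫ fst _ _
    let t := pp ≫ snd _ _
    have hab : a ≫ D.m (n + 1) = b ≫ D.m (n + 1) := by
      simpa only [a, b, Category.assoc, whiskerRight_fst] using congrArg (· ≫ fst _ _) hpq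
    have ht : qq ≫ snd _ _ = t := by
      simpa only [t, Category.assoc, whiskerRight_snd] using (congrArg (· ≫ snd _ _) hpq).symm
    -- functions as maps to the affine line
    let A : CommRingCat.{u} := CommRingCat.of (Polynomial (ULift.{u} ℤ))
    let ev : ∀ {B : CommRingCat.{u}}, B → (A ⟶ B) := fun {B} y =>
      CommRingCat.ofHom (Polynomial.eval₂RingHom ((Int.castRingHom B).comp ULift.ringEquiv.toRingHom) y)
    have hev : ∀ {B : CommRingCat.{u}} (y : B), (ev y).hom Polynomial.X = y := fun y => Polynomial.eval₂_X _ _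
    have hnat : ∀ {B B' : CommRingCat.{u}} (φ : B ⟶ B') (y : B), ev y ≫ φ = ev (φ y) := by
      intro B B' φ y
      refine CommRingCat.hom_ext (Polynomial.ringHom_ext (fun c => ?_) ?_)
      · exact RingHom.congr_fun (Subsingleton.elim
          (((ev y ≫ φ).hom.comp Polynomial.C).comp ULift.ringEquiv.symm.toRingHom)
          (((ev (φ y)).hom.comp Polynomial.C).comp ULift.ringEquiv.symm.toRingHom)) c.down
      · show φ.hom ((ev y).hom Polynomial.X) = (ev (φ y)).hom Polynomial.X
        rw [hev, hev]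
    let toA : ∀ {Z : Scheme.{u}}, Γ(Z, ⊤) → (Z ⟶ Spec A) := fun {Z} y => Z.toSpecΓ ≫ Spec.map (ev y)
    have htoA : ∀ {Z Z' : Scheme.{u}} (φ : Z' ⟶ Z) (y : Γ(Z, ⊤)), φ ≫ toA y = toA (φ.appTop y) := by
      intro Z Z' φ y
      simp only [toA, Scheme.toSpecΓ_naturality_assoc, ← Spec.map_comp, hnat]
    have htoA_inj : ∀ {Z : Scheme.{u}} (y y' : Γ(Z, ⊤)), toA y = toA y' → y = y' := by
      intro Z y y' h
      have h1 := congrArg (fun φ : Z ⟶ Spec A => φ.appTop) h
      simp only [toA, Scheme.Hom.comp_appTop, Scheme.toSpecΓ_appTop, Scheme.ΓSpecIso_naturality] at h1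
      rw [← hev y, (cancel_epi _).1 h1, hev]
    -- the diagonal
    have hdiag : ∀ {R' : Over (Spec (CommRingCat.of k))} (i : R' ⟶ R), i ≫ a = i ≫ b → i.left.appTop v = 1 := by
      intro R' i hi
      have hi' : i ≫ qq = i ≫ pp := by
        refine CartesianMonoidalCategory.hom_ext _ _ ?_ ?_
        · simpa only [a, b, Category.assoc] using hi.symm
        · rw [Category.assoc, Category.assoc, ht]
      have e : i.left = (i ≫ pp).left ≫ pullback.diagonal g := by
        refine pullback.hom_ext ?_ ?_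
        · rw [Category.assoc, pullback.diagonal_fst, Category.comp_id]
          rfl
        · rw [Category.assoc, pullback.diagonal_snd, Category.comp_id, ← hi']
          rfl
      rw [e, Scheme.Hom.comp_appTop, CommRingCat.comp_apply]
      exact (congrArg _ hv).trans (map_one _)
    -- the other component
    let C : Over (Spec (CommRingCat.of k)) := Over.mk f
    let P := D.H n ⊗ (C ⊗ C)
    let p₀ := fst (D.H n) (C ⊗ C)
    let px := snd (D.H n) (C ⊗ C) ≫ fst C C
    let py := snd (D.H n) (C ⊗ C) ≫ snd C C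
    let aP : P ⟶ HX f (D.H (n + 1)) := Alb.pair (Alb.pair p₀ py ≫ D.m n) px
    let bP : P ⟶ HX f (D.H (n + 1)) := Alb.pair (Alb.pair p₀ px ≫ D.m n) py
    have hdivP : ∀ {T' : Over (Spec (CommRingCat.of k))} (h : T' ⟶ D.H n) (x y : T' ⟶ Over.mk f),
        HilbD.pull f (Alb.pair (Alb.pair h y ≫ D.m n) x ≫ D.m (n + 1)) (D.Z (n + 1 + 1)).1 =
          HilbD.pull f h (D.Z n).1 * gr y * gr x := by
      intro T' h x y
      rw [← pull_pull, D.pull_m, pull_mul, pull_pull, pull_gr, pair_prH, pair_prX, ← pull_pull, D.pull_m, pull_mul,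
        pull_pull, pull_gr, pair_prH, pair_prX]
    have hP : aP ≫ D.m (n + 1) = bP ≫ D.m (n + 1) := by
      refine (D.univ (n + 1 + 1) P ⟨_, isFinLocFreeOfDeg_pull f (aP ≫ D.m (n + 1)) _ (D.Z (n + 1 + 1)).2⟩).unique rfl ?_
      show HilbD.pull f (bP ≫ D.m (n + 1)) _ = HilbD.pull f (aP ≫ D.m (n + 1)) _
      rw [hdivP, hdivP, mul_assoc, mul_comm (gr px), ← mul_assoc]
    let Φl : (P ⊗ T).left ⟶ R.left := pullback.lift (aP ▷ T).left (bP ▷ T).left (by
      show (aP ▷ T).left ≫ (D.m (n + 1) ▷ T).left = (bP ▷ T).left ≫ (D.m (n + 1) ▷ T).left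
      rw [← Over.comp_left, ← Over.comp_left, ← comp_whiskerRight, ← comp_whiskerRight, hP])
    let Φ : P ⊗ T ⟶ R := Over.homMk Φl (by
      show Φl ≫ p ≫ W.hom = _
      rw [pullback.lift_fst_assoc]
      exact Over.w (aP ▷ T))
    have hΦa : Φ ≫ a = fst P T ≫ aP := by
      rw [show Φ ≫ a = (Φ ≫ pp) ≫ fst _ _ from (Category.assoc _ _ _).symm,
        show Φ ≫ pp = aP ▷ T from Over.OverMorphism.ext (pullback.lift_fst _ _ _), whiskerRight_fst]
    have hΦb : Φ ≫ b = fst P T ≫ bP := by
      rw [show Φ ≫ b = (Φ ≫ qq) ≫ fst _ _ from (Category.assoc _ _ _).symm,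
        show Φ ≫ qq = bP ▷ T from Over.OverMorphism.ext (pullback.lift_snd _ _ _), whiskerRight_fst]
    have hΦt : Φ ≫ t = snd P T := by
      rw [show Φ ≫ t = (Φ ≫ pp) ≫ snd _ _ from (Category.assoc _ _ _).symm,
        show Φ ≫ pp = aP ▷ T from Over.OverMorphism.ext (pullback.lift_fst _ _ _), whiskerRight_snd]
    have hΦv : Φ.left.appTop v = 1 := by
      haveI := D.proper n
      haveI : IsProper C.hom := ‹IsProper f›
      haveI : IsIntegral C.left := ‹IsIntegral X›
      haveI : IsProper (C ⊗ C).hom := inferInstanceAs (IsProper (pullback.fst C.hom C.hom ≫ C.hom))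
      have hbij : Function.Bijective P.hom.appTop := bijective_appTop_tensor
        (bijective_appTop_of_pt (D.H n) (D.pt n))
        (bijective_appTop_tensor (bijective_appTop_of_pt C bp) (bijective_appTop_of_pt C bp))
      haveI : IsProper P.hom := by
        exact inferInstanceAs (IsProper (pullback.fst (D.H n).hom (C ⊗ C).hom ≫ (D.H n).hom))
      obtain ⟨y, hy⟩ := (H23.Rigid.bijective_app_snd_of_bijective P.hom T.hom hbij ⊤).2 (Φ.left.appTop v)
      let z : T ⟶ P ⊗ T := lift (toUnit T ≫ lift (D.pt n) (lift bp bp)) (𝟙 T)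
      have hz : (z ≫ Φ).left.appTop v = 1 := hdiag (z ≫ Φ) (by
        simp only [Category.assoc, hΦa, hΦb, z, lift_fst_assoc]
        refine congrArg (toUnit T ≫ ·) ?_
        have e1 : lift (D.pt n) (lift bp bp) ≫ px = bp := by simp [px, C]
        have e2 : lift (D.pt n) (lift bp bp) ≫ py = bp := by simp [py, C]
        have hp : ∀ (h : P ⟶ D.H n) (x : P ⟶ Over.mk f) (φ : 𝟙_ (Over (Spec (CommRingCat.of k))) ⟶ P),
            φ ≫ Alb.pair h x = Alb.pair (φ ≫ h) (φ ≫ x) := fun h x φ => Over.OverMorphism.ext (pullback.hom_ext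
          (by simp [Alb.pair]) (by simp [Alb.pair]))
        have hp' : ∀ (h : P ⟶ D.H (n + 1)) (x : P ⟶ Over.mk f) (φ : 𝟙_ (Over (Spec (CommRingCat.of k))) ⟶ P),
            φ ≫ Alb.pair h x = Alb.pair (φ ≫ h) (φ ≫ x) := fun h x φ => Over.OverMorphism.ext (pullback.hom_ext
          (by simp [Alb.pair]) (by simp [Alb.pair]))
        show _ ≫ Alb.pair (Alb.pair p₀ py ≫ D.m n) px = _ ≫ Alb.pair (Alb.pair p₀ px ≫ D.m n) py
        rw [hp', hp', e1, e2, ← Category.assoc, ← Category.assoc, hp, hp, e1, e2])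
      rw [Over.comp_left, Scheme.Hom.comp_appTop, CommRingCat.comp_apply, ← hy] at hz
      change z.left.appTop ((snd P T).left.appTop y) = 1 at hz
      rw [← CommRingCat.comp_apply, ← Scheme.Hom.comp_appTop, ← Over.comp_left, lift_snd, Over.id_left] at hz
      change y = 1 at hz
      rw [← hy, hz, map_one]
    have hfin : ∀ {R' : Over (Spec (CommRingCat.of k))} (i : R' ⟶ R), i.left.appTop v = 1 →
        i.left ≫ toA v = i.left ≫ toA 1 := fun i hi => by
      rw [htoA, htoA, hi, map_one]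
    -- over the open part
    refine htoA_inj _ _ ?_
    haveI : Flat g := MorphismProperty.of_isPullback (isPullback_whiskerRight (D.m (n + 1)) T).flip inferInstance
    haveI : Flat (fst (HX f (D.H (n + 1))) T).left :=
      inferInstanceAs (Flat (pullback.fst (HX f (D.H (n + 1))).hom T.hom))
    haveI : Flat a.left := inferInstanceAs (Flat (p ≫ (fst (HX f (D.H (n + 1))) T).left))
    refine Alb.eq_of_eqOn_open a.left (away (D.Z (n + 1))) (D.away_nonempty hdim n) (terminal.from (Spec A))
      (terminal.hom_ext _ _) ?_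
    let Oa : R.left.Opens := a.left ⁻¹ᵁ away (D.Z (n + 1))
    let g₀ := AbDual.ovrHom R Oa.ι
    let a' := g₀ ≫ a
    let b' := g₀ ≫ b
    let h := a' ≫ prH f (D.H (n + 1))
    let h' := b' ≫ prH f (D.H (n + 1))
    let x := a' ≫ prX f (D.H (n + 1))
    let y := b' ≫ prX f (D.H (n + 1))
    let Z := D.Z (n + 1)
    have e : HilbD.pull f h Z.1 * gr x = HilbD.pull f h' Z.1 * gr y := by
      have e0 := congrArg (fun φ => HilbD.pull f φ (D.Z (n + 1 + 1)).1) (congrArg (g₀ ≫ ·) hab)
      simp only [← Category.assoc] at e0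
      simp only [← pull_pull, D.pull_m, pull_mul, pull_gr] at e0
      simpa only [pull_pull, h, h', x, y, a', b', Z, Category.assoc] using e0
    let I := inLoc y (HilbD.pull f h Z.1)
    let K := inLoc y (gr x)
    have hmul : I * K = ⊥ := by
      show inLoc y _ * inLoc y _ = ⊥
      rw [inLoc, inLoc, ← FComplLib.comap_mul, e, FComplLib.comap_mul,
        show (gr y).comap (sc y) = ⊥ from FComplLib.ker_self_comap (sc y), mul_comm, eq_bot_iff]
      exact fun U => by simp
    let R₀ := AbDual.ovr R Oa.ι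
    have hdisj : (I.support : Set R₀.left) ∩ K.support = ∅ := by
      refine Set.eq_empty_of_forall_notMem fun s ⟨hsI, hsJ⟩ => ?_
      refine (away_spec Z a' s).1 ?_ s.2
      rw [Scheme.IdealSheafData.support_comap] at hsI hsJ
      replace hsI : sc y s ∈ ((HilbD.pull f h Z.1).support : Set (PicF.XT f R₀)) := hsI
      replace hsJ : sc y s ∈ ((gr x).support : Set (PicF.XT f R₀)) := hsJ
      rw [show gr x = (sc x).ker from secGraph_eq f _ _ _, Scheme.Hom.support_ker] at hsJ
      change sc y s ∈ closure (Set.range (sc x)) at hsJ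
      rw [(sc x).isClosedEmbedding.isClosed_range.closure_eq] at hsJ
      obtain ⟨s', hs'⟩ := hsJ
      have hp : ∀ (z : R₀ ⟶ Over.mk f) (w : R₀.left), PicF.XTproj f R₀ (sc z w) = w := fun z w =>
        congr($(sec_proj f R₀ z.left (Over.w z)) w)
      obtain rfl : s' = s := by rw [← hp x s', hs', hp]
      rw [← hs'] at hsI
      rw [Scheme.IdealSheafData.support_comap]
      exact hsI
    refine Alb.eq_of_closeds (terminal.from (Spec A)) (terminal.hom_ext _ _) I K ?_ ?_
      (inf_eq_bot_of_mul I K hmul hdisj)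
    · let i := AbDual.ovrHom R₀ I.subschemeι
      have he : HilbD.pull f (i ≫ h) Z.1 * gr (i ≫ x) = HilbD.pull f (i ≫ h') Z.1 * gr (i ≫ y) := by
        simpa only [pull_mul, pull_pull, pull_gr] using congrArg (HilbD.pull f i) e
      have hle : HilbD.pull f (i ≫ h) Z.1 ≤ gr (i ≫ y) := by
        rw [← pull_pull]; exact le_of_inLoc y _
      let R₁ := AbDual.ovr R₀ I.subschemeι
      haveI := smooth_XTproj f R₁
      obtain ⟨I₀, hI₀, hIe⟩ := RelCurveDiv.difference_finLocFreeOfDeg (PicF.XTproj f R₁) _ _ hle 1 (n + 1)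
        (deg_secGraph f R₁ (i ≫ y).left (Over.w (i ≫ y))) (isFinLocFreeOfDeg_pull f (i ≫ h) Z.1 Z.2)
      rw [Nat.add_sub_cancel] at hI₀
      obtain ⟨h₀, hh₀, -⟩ := D.univ n R₁ ⟨I₀, hI₀⟩
      change HilbD.pull f h₀ (D.Z n).1 = I₀ at hh₀
      have huniq : ∀ (u₁ : R₁ ⟶ D.H (n + 1)) (z : R₁ ⟶ Over.mk f),
          HilbD.pull f u₁ Z.1 = HilbD.pull f h₀ (D.Z n).1 * gr z → u₁ = Alb.pair h₀ z ≫ D.m n := by
        intro u₁ z hu
        refine (D.univ (n + 1) R₁ ⟨_, isFinLocFreeOfDeg_pull f u₁ _ Z.2⟩).unique rfl ?_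
        show HilbD.pull f (Alb.pair h₀ z ≫ D.m n) _ = _
        rw [← pull_pull, D.pull_m, pull_mul, pull_pull, pull_gr, pair_prH, pair_prX]
        exact hu.symm
      have e1 : i ≫ h = Alb.pair h₀ (i ≫ y) ≫ D.m n := huniq _ _ (by rw [hh₀, hIe, mul_comm])
      have e2 : i ≫ h' = Alb.pair h₀ (i ≫ x) ≫ D.m n := by
        refine huniq _ _ (RelCurveDiv.div_cancel (PicF.XTproj f R₁)
          (deg_secGraph f R₁ (i ≫ y).left (Over.w (i ≫ y))) ?_)
        show gr (i ≫ y) * HilbD.pull f (i ≫ h') Z.1 = gr (i ≫ y) * (HilbD.pull f h₀ (D.Z n).1 * gr (i ≫ x))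
        rw [mul_comm (gr (i ≫ y)) (HilbD.pull f (i ≫ h') Z.1), ← he, hh₀, hIe, _root_.mul_assoc]
      let w : R₁ ⟶ P ⊗ T := lift (lift h₀ (lift (i ≫ x) (i ≫ y))) (i ≫ g₀ ≫ t)
      have hpair : ∀ {m : ℕ} (φ : R₁ ⟶ P) (u₁ : P ⟶ D.H m) (z : P ⟶ Over.mk f),
          φ ≫ Alb.pair u₁ z = Alb.pair (φ ≫ u₁) (φ ≫ z) := fun φ u₁ z => Over.OverMorphism.ext (pullback.hom_ext
        (by simp [Alb.pair]) (by simp [Alb.pair]))
      have heta : ∀ (z : R₁ ⟶ HX f (D.H (n + 1))), z = Alb.pair (z ≫ prH f _) (z ≫ prX f _) := fun z =>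
        Over.OverMorphism.ext (pullback.hom_ext (by simp [Alb.pair]) (by simp [Alb.pair]))
      have hw1 : lift h₀ (lift (i ≫ x) (i ≫ y)) ≫ px = i ≫ x := by simp [px, C]
      have hw2 : lift h₀ (lift (i ≫ x) (i ≫ y)) ≫ py = i ≫ y := by simp [py, C]
      have hw0 : lift h₀ (lift (i ≫ x) (i ≫ y)) ≫ p₀ = h₀ := lift_fst _ _
      have hw : w ≫ Φ = i ≫ g₀ := by
        refine Over.OverMorphism.ext (pullback.hom_ext ?_ ?_)
        · show ((w ≫ Φ) ≫ pp).left = ((i ≫ g₀) ≫ pp).left
          refine congrArg Over.Hom.left (CartesianMonoidalCategory.hom_ext _ _ ?_ ?_)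
          · show (((w ≫ Φ) ≫ pp) ≫ fst _ _) = ((i ≫ g₀) ≫ pp) ≫ fst _ _
            simp only [Category.assoc]
            rw [show pp ≫ fst _ _ = a from rfl, hΦa, show g₀ ≫ a = a' from rfl, heta (i ≫ a')]
            rw [← Category.assoc w, lift_fst]
            simp only [aP, hpair, ← Category.assoc, hw0, hw1, hw2]
            rw [← e1]
            simp only [h, x, Category.assoc]
          · show (((w ≫ Φ) ≫ pp) ≫ snd _ _) = ((i ≫ g₀) ≫ pp) ≫ snd _ _
            simp only [Category.assoc]
            rw [show pp ≫ snd _ _ = t from rfl, hΦt, lift_snd]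
        · show ((w ≫ Φ) ≫ qq).left = ((i ≫ g₀) ≫ qq).left
          refine congrArg Over.Hom.left (CartesianMonoidalCategory.hom_ext _ _ ?_ ?_)
          · show (((w ≫ Φ) ≫ qq) ≫ fst _ _) = ((i ≫ g₀) ≫ qq) ≫ fst _ _
            simp only [Category.assoc]
            rw [show qq ≫ fst _ _ = b from rfl, hΦb, show g₀ ≫ b = b' from rfl, heta (i ≫ b')]
            rw [← Category.assoc w, lift_fst]
            simp only [bP, hpair, ← Category.assoc, hw0, hw1, hw2]
            rw [← e2]
            simp only [h', y, Category.assoc]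
          · show (((w ≫ Φ) ≫ qq) ≫ snd _ _) = ((i ≫ g₀) ≫ qq) ≫ snd _ _
            simp only [Category.assoc]
            rw [ht, hΦt, lift_snd]
      show i.left ≫ g₀.left ≫ toA v = i.left ≫ g₀.left ≫ toA 1
      rw [← Category.assoc, ← Category.assoc (f := i.left), ← Over.comp_left]
      exact hfin (i ≫ g₀) (by rw [← hw, Over.comp_left, Scheme.Hom.comp_appTop, CommRingCat.comp_apply, hΦv, map_one])
    · let i := AbDual.ovrHom R₀ K.subschemeι
      have he : HilbD.pull f (i ≫ h) Z.1 * gr (i ≫ x) = HilbD.pull f (i ≫ h') Z.1 * gr (i ≫ y) := by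
        simpa only [pull_mul, pull_pull, pull_gr] using congrArg (HilbD.pull f i) e
      let R₁ := AbDual.ovr R₀ K.subschemeι
      have hxy : i ≫ y = i ≫ x := eq_of_gr_le (by
        rw [← show gr (i ≫ y) = (sc (i ≫ y)).ker from secGraph_eq f _ _ _, ← pull_gr i x]
        exact le_of_inLoc y _)
      haveI := smooth_XTproj f R₁
      rw [hxy] at he
      have e' : HilbD.pull f (i ≫ h) Z.1 = HilbD.pull f (i ≫ h') Z.1 :=
        RelCurveDiv.div_cancel (PicF.XTproj f R₁) (deg_secGraph f R₁ (i ≫ x).left (Over.w (i ≫ x)))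
          (show gr (i ≫ x) * _ = gr (i ≫ x) * _ by rw [mul_comm, he, mul_comm])
      have hhh : i ≫ h = i ≫ h' :=
        (D.univ (n + 1) R₁ ⟨_, isFinLocFreeOfDeg_pull f (i ≫ h) Z.1 Z.2⟩).unique rfl e'.symm
      have hiab : (i ≫ g₀) ≫ a = (i ≫ g₀) ≫ b := by
        refine Over.OverMorphism.ext (pullback.hom_ext congr($(hhh).left) congr($(hxy.symm).left))
      show i.left ≫ g₀.left ≫ toA v = i.left ≫ g₀.left ≫ toA 1
      rw [← Category.assoc, ← Category.assoc (f := i.left), ← Over.comp_left]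
      exact hfin (i ≫ g₀) (hdiag (i ≫ g₀) hiab)

variable {A : Over (Spec (CommRingCat.of k))} [GrpObj A] [IsCommMonObj A] [IsSeparated A.hom]
  (φ : Over.mk f ⟶ A) (hdim : topologicalKrullDim X = 1) {T : Over (Spec (CommRingCat.of k))}

include hdim in
/-- additive classes trivial on the curve are trivial on divisors -/
theorem pull_sum_eq_one (bp : 𝟙_ (Over (Spec (CommRingCat.of k))) ⟶ Over.mk f) {c : PicF.Cl (A ⊗ T).left}
    (hc : PicF.IsInvertibleCl c)
    (hadd : ∀ (R : Over (Spec (CommRingCat.of k))) (x y : R ⟶ A) (t : R ⟶ T),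
      pl (lift (x * y) t) c = pl (lift x t) c * pl (lift y t) c)
    (hφ : pl (φ ▷ T) c = 1) : ∀ n, pl (sum D φ hdim n ▷ T) c = 1
  | 0 => by
    rw [sum_zero]
    have e : (1 : D.H 0 ⟶ A) ▷ T = lift ((1 : D.H 0 ⊗ T ⟶ A) * 1) (snd _ _) := by
      rw [_root_.mul_one]
      apply CartesianMonoidalCategory.hom_ext
      · simp [MonObj.comp_one]
      · simp
    have h2 := hadd (D.H 0 ⊗ T) 1 1 (snd _ _)
    rw [← e, show lift (1 : D.H 0 ⊗ T ⟶ A) (snd _ _) = (1 : D.H 0 ⟶ A) ▷ T by rw [e, _root_.mul_one]] at h2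
    exact (H23.PicMul.isUnit_of_isInvertibleCl (isInv_pl ((1 : D.H 0 ⟶ A) ▷ T) hc)).mul_left_cancel
      (h2.symm.trans (_root_.mul_one _).symm)
  | n + 1 => by
    have ih := pull_sum_eq_one bp hc hadd hφ n
    let C : Over (Spec (CommRingCat.of k)) := Over.mk f
    have hpull : pl (D.m n ▷ T) (pl (sum D φ hdim (n + 1) ▷ T) c) = 1 := by
      rw [pl_pl, ← comp_whiskerRight, sum_spec]
      have e : ((prH f (D.H n) ≫ sum D φ hdim n) * (prX f (D.H n) ≫ φ)) ▷ T =
          lift ((fst _ _ ≫ prH f (D.H n) ≫ sum D φ hdim n) * (fst _ _ ≫ prX f (D.H n) ≫ φ)) (snd _ _) := by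
        apply CartesianMonoidalCategory.hom_ext
        · rw [whiskerRight_fst, lift_fst, MonObj.comp_mul]
        · simp
      rw [e, hadd,
        show lift (fst (HX f (D.H n)) T ≫ prH f (D.H n) ≫ sum D φ hdim n) (snd _ _) =
          (prH f (D.H n) ▷ T) ≫ (sum D φ hdim n ▷ T) by apply CartesianMonoidalCategory.hom_ext <;> simp,
        show lift (fst (HX f (D.H n)) T ≫ prX f (D.H n) ≫ φ) (snd _ _) = (prX f (D.H n) ▷ T) ≫ (φ ▷ T) by
          apply CartesianMonoidalCategory.hom_ext <;> simp,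
        ← pl_pl, ← pl_pl, ih, hφ, map_one, map_one, _root_.mul_one]
    obtain ⟨L, hL, hLi⟩ := isInv_pl (sum D φ hdim (n + 1) ▷ T) hc
    rw [← hL] at hpull ⊢
    let g := (D.m n ▷ T).left
    have sq := (isPullback_whiskerRight (D.m n) T).flip
    haveI : Flat g := MorphismProperty.of_isPullback sq inferInstance
    haveI : Surjective g := MorphismProperty.of_isPullback sq inferInstance
    haveI : IsFinite g := MorphismProperty.of_isPullback sq inferInstance
    refine H23.PicMul.cl_eq_iff.2 ?_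
    exact triv_of_flat g hLi (H23.PicMul.cl_eq_iff.1 hpull) fun v _ hv => double_cover D hdim bp n T v hv

end Groth.Agent.PicCurve.PicMono

end
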